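import Groth.Agent.Lib.Helper2.CMBlow.Alg
import Groth.Agent.Lib.Helper2.ExcSm.Sch
import Groth.Agent.Lib.Helper18.DSchA
import Groth.Agent.Lib.Helper3.BlowUpBasic
import Groth.Agent.Lib.Helper17.BlowUpMero

/-!
# The blow-up of a Cohen–Macaulay scheme in a regular ideal is Cohen–Macaulay (helper2)
-/

set_option autoImplicit false
set_option linter.style.haveILetI false
set_option linter.unusedSectionVars false
universe u

open CategoryTheory CategoryTheory.Limits AlgebraicGeometry Opposite TopologicalSpace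

namespace Groth.Agent.Lib.Helper2.CMBlow

open Groth.Agent.Lib.Helper2.ExcSm Groth.Agent.Lib.Helper18.DSch

theorem isCMRing_sections {X : Scheme.{u}} [IsLocallyNoetherian X]
    (hcm : ∀ x : X, LocCoh.IsCohenMacaulayLocalRing (X.presheaf.stalk x)) (U : X.affineOpens) :
    LocCoh.IsCohenMacaulayRing Γ(X, U.1) := by
  haveI : IsNoetherianRing Γ(X, U.1) := IsLocallyNoetherian.component_noetherian U
  refine { isCohenMacaulayLocalRing_localization := fun p hp => ?_ }
  exact (cm_stalk_iff U ⟨p, hp⟩).1 (hcm _)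

theorem cm_stalk_of_chart {X : Scheme.{u}} {R : Type u} [CommRing R]
    [LocCoh.IsCohenMacaulayRing R] (c : Spec (CommRingCat.of R) ⟶ X) [IsOpenImmersion c]
    (z : Spec (CommRingCat.of R)) :
    LocCoh.IsCohenMacaulayLocalRing (X.presheaf.stalk (c z)) := by
  let U : X.Opens := c ''ᵁ ⊤
  have hU : IsAffineOpen U := (isAffineOpen_top (Spec (CommRingCat.of R))).image_of_isOpenImmersion c
  have hp : c z ∈ U := ⟨z, trivial, rfl⟩
  let e : Γ(X, U) ≅ CommRingCat.of R := c.appIso ⊤ ≪≫ Scheme.ΓSpecIso (CommRingCat.of R)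
  haveI : LocCoh.IsCohenMacaulayRing Γ(X, U) :=
    isCMRing_of_ringEquiv e.commRingCatIsoToRingEquiv.symm
  obtain ⟨y, hy⟩ := exists_prime_of_mem ⟨U, hU⟩ (c z) hp
  rw [← hy]
  exact (cm_stalk_iff ⟨U, hU⟩ y).2
    (LocCoh.IsCohenMacaulayRing.isCohenMacaulayLocalRing_localization y.asIdeal)

/-- variant of `isCMRing_Rp` with a propositional equality for the ideal. -/
theorem isCMRing_Rp' {A : Type u} [CommRing A] [IsNoetherianRing A]
    [LocCoh.IsCohenMacaulayRing A] {r : ℕ} (f : Fin r → A) (i₀ : Fin r) (I : Ideal A)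
    (hI : I = Ideal.span (Set.range f))
    (hf : RingTheory.Sequence.IsWeaklyRegular A (List.ofFn f)) :
    LocCoh.IsCohenMacaulayRing ↥(BlowUp.affineAlgebra A I (f i₀)) := by
  subst hI
  exact isCMRing_Rp f i₀ hf

theorem main (W T : Scheme.{u}) [IsLocallyNoetherian W]
    (hcm : ∀ w : W, LocCoh.IsCohenMacaulayLocalRing (W.presheaf.stalk w))
    (I : W.IdealSheafData) (hI : RegImm.IsRegularIdeal RegImm.Kind.regular I)
    (π : T ⟶ W) (hπ : BlowUp.IsBlowUp π I) (t : T) :
    LocCoh.IsCohenMacaulayLocalRing (T.presheaf.stalk t) := by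
  by_cases hs : π t ∈ I.support
  · obtain ⟨U, hxU, rs, hreg, hker⟩ := hI (π t) hs
    have hreg' : RingTheory.Sequence.IsRegular Γ(W, U.1) rs := hreg
    have hIeq : I.ideal ⟨U.1, U.2⟩ = Ideal.span (Set.range rs.get) := by
      rw [← Groth.Agent.Lib.Helper9.QuasiReg.ofList_ofFn, List.ofFn_get]
      exact hker
    have hwr : RingTheory.Sequence.IsWeaklyRegular Γ(W, U.1) (List.ofFn rs.get) := by
      rw [List.ofFn_get]
      exact hreg'.toIsWeaklyRegular
    obtain ⟨j₀, ζ, hζi, ⟨z, hz⟩, -⟩ := exists_chart_gens I π hπ U.1 U.2 rs.get hIeq t hxU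
    haveI : IsNoetherianRing Γ(W, U.1) := IsLocallyNoetherian.component_noetherian U
    haveI := isCMRing_sections hcm U
    haveI := isCMRing_Rp' rs.get j₀ (I.ideal ⟨U.1, U.2⟩) hIeq hwr
    rw [← hz]
    exact cm_stalk_of_chart ζ z
  · haveI := Groth.Agent.Lib.Helper3.isIso_morphismRestrict_of_isBlowUp I π hπ
    haveI := Groth.Agent.Lib.Helper17.BlowUpMero.isIso_stalkMap_of_isIso_morphismRestrict π
      I.support.compl t hs
    haveI := hcm (π t)
    exact Groth.Agent.Lib.Helper22.CMG.isCMLocalRing_of_ringEquiv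
      (asIso (π.stalkMap t)).commRingCatIsoToRingEquiv

end Groth.Agent.Lib.Helper2.CMBlow
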